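import Cfsg.Prelude.Def_ConjugacyFunctors

/-! Realises once the on-demand equation lemmas of the recursive / matching definitions of `Def_ConjugacyFunctors`.
Import this file before using `simp [f]`, `unfold f`, `rw [f]` on them. -/

namespace Cfsg.Agent.Eqns

theorem functorTower_eq_1 : type_of% @Cfsg.functorTower.eq_1 := @Cfsg.functorTower.eq_1
theorem functorTower_eq_2 : type_of% @Cfsg.functorTower.eq_2 := @Cfsg.functorTower.eq_2
theorem functorTower_eq_def : type_of% @Cfsg.functorTower.eq_def := @Cfsg.functorTower.eq_def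
theorem kSeqOdd_eq_1 : type_of% @Cfsg.kSeqOdd.eq_1 := @Cfsg.kSeqOdd.eq_1
theorem kSeqOdd_eq_2 : type_of% @Cfsg.kSeqOdd.eq_2 := @Cfsg.kSeqOdd.eq_2
theorem kSeqOdd_eq_def : type_of% @Cfsg.kSeqOdd.eq_def := @Cfsg.kSeqOdd.eq_def

end Cfsg.Agent.Eqns
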