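import Cfsg.Prelude.Def_LieTypeDatum

/-! Realises once the on-demand equation lemmas of the recursive / matching definitions of `Def_LieTypeDatum`.
Import this file before using `simp [f]`, `unfold f`, `rw [f]` on them. -/

namespace Cfsg.Agent.Eqns

theorem IsInnerDiagonalAutOfType_eq_1 : type_of% @Cfsg.IsInnerDiagonalAutOfType.eq_1 := @Cfsg.IsInnerDiagonalAutOfType.eq_1
theorem IsInnerDiagonalAutOfType_eq_2 : type_of% @Cfsg.IsInnerDiagonalAutOfType.eq_2 := @Cfsg.IsInnerDiagonalAutOfType.eq_2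
theorem IsInnerDiagonalAutOfType_eq_3 : type_of% @Cfsg.IsInnerDiagonalAutOfType.eq_3 := @Cfsg.IsInnerDiagonalAutOfType.eq_3
theorem IsInnerDiagonalAutOfType_eq_4 : type_of% @Cfsg.IsInnerDiagonalAutOfType.eq_4 := @Cfsg.IsInnerDiagonalAutOfType.eq_4
theorem IsInnerDiagonalAutOfType_eq_5 : type_of% @Cfsg.IsInnerDiagonalAutOfType.eq_5 := @Cfsg.IsInnerDiagonalAutOfType.eq_5
theorem IsInnerDiagonalAutOfType_eq_6 : type_of% @Cfsg.IsInnerDiagonalAutOfType.eq_6 := @Cfsg.IsInnerDiagonalAutOfType.eq_6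
theorem IsInnerDiagonalAutOfType_eq_7 : type_of% @Cfsg.IsInnerDiagonalAutOfType.eq_7 := @Cfsg.IsInnerDiagonalAutOfType.eq_7
theorem IsInnerDiagonalAutOfType_eq_8 : type_of% @Cfsg.IsInnerDiagonalAutOfType.eq_8 := @Cfsg.IsInnerDiagonalAutOfType.eq_8
theorem IsInnerDiagonalAutOfType_eq_9 : type_of% @Cfsg.IsInnerDiagonalAutOfType.eq_9 := @Cfsg.IsInnerDiagonalAutOfType.eq_9
theorem IsInnerDiagonalAutOfType_eq_10 : type_of% @Cfsg.IsInnerDiagonalAutOfType.eq_10 := @Cfsg.IsInnerDiagonalAutOfType.eq_10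
theorem IsInnerDiagonalAutOfType_eq_11 : type_of% @Cfsg.IsInnerDiagonalAutOfType.eq_11 := @Cfsg.IsInnerDiagonalAutOfType.eq_11
theorem IsInnerDiagonalAutOfType_eq_12 : type_of% @Cfsg.IsInnerDiagonalAutOfType.eq_12 := @Cfsg.IsInnerDiagonalAutOfType.eq_12
theorem IsInnerDiagonalAutOfType_eq_13 : type_of% @Cfsg.IsInnerDiagonalAutOfType.eq_13 := @Cfsg.IsInnerDiagonalAutOfType.eq_13
theorem IsInnerDiagonalAutOfType_eq_14 : type_of% @Cfsg.IsInnerDiagonalAutOfType.eq_14 := @Cfsg.IsInnerDiagonalAutOfType.eq_14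
theorem IsInnerDiagonalAutOfType_eq_15 : type_of% @Cfsg.IsInnerDiagonalAutOfType.eq_15 := @Cfsg.IsInnerDiagonalAutOfType.eq_15
theorem IsInnerDiagonalAutOfType_eq_16 : type_of% @Cfsg.IsInnerDiagonalAutOfType.eq_16 := @Cfsg.IsInnerDiagonalAutOfType.eq_16
theorem IsInnerDiagonalAutOfType_eq_def : type_of% @Cfsg.IsInnerDiagonalAutOfType.eq_def := @Cfsg.IsInnerDiagonalAutOfType.eq_def
theorem IsOfLieType_eq_1 : type_of% @Cfsg.IsOfLieType.eq_1 := @Cfsg.IsOfLieType.eq_1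
theorem IsOfLieType_eq_2 : type_of% @Cfsg.IsOfLieType.eq_2 := @Cfsg.IsOfLieType.eq_2
theorem IsOfLieType_eq_3 : type_of% @Cfsg.IsOfLieType.eq_3 := @Cfsg.IsOfLieType.eq_3
theorem IsOfLieType_eq_4 : type_of% @Cfsg.IsOfLieType.eq_4 := @Cfsg.IsOfLieType.eq_4
theorem IsOfLieType_eq_5 : type_of% @Cfsg.IsOfLieType.eq_5 := @Cfsg.IsOfLieType.eq_5
theorem IsOfLieType_eq_6 : type_of% @Cfsg.IsOfLieType.eq_6 := @Cfsg.IsOfLieType.eq_6
theorem IsOfLieType_eq_7 : type_of% @Cfsg.IsOfLieType.eq_7 := @Cfsg.IsOfLieType.eq_7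
theorem IsOfLieType_eq_8 : type_of% @Cfsg.IsOfLieType.eq_8 := @Cfsg.IsOfLieType.eq_8
theorem IsOfLieType_eq_9 : type_of% @Cfsg.IsOfLieType.eq_9 := @Cfsg.IsOfLieType.eq_9
theorem IsOfLieType_eq_10 : type_of% @Cfsg.IsOfLieType.eq_10 := @Cfsg.IsOfLieType.eq_10
theorem IsOfLieType_eq_11 : type_of% @Cfsg.IsOfLieType.eq_11 := @Cfsg.IsOfLieType.eq_11
theorem IsOfLieType_eq_12 : type_of% @Cfsg.IsOfLieType.eq_12 := @Cfsg.IsOfLieType.eq_12
theorem IsOfLieType_eq_13 : type_of% @Cfsg.IsOfLieType.eq_13 := @Cfsg.IsOfLieType.eq_13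
theorem IsOfLieType_eq_14 : type_of% @Cfsg.IsOfLieType.eq_14 := @Cfsg.IsOfLieType.eq_14
theorem IsOfLieType_eq_15 : type_of% @Cfsg.IsOfLieType.eq_15 := @Cfsg.IsOfLieType.eq_15
theorem IsOfLieType_eq_16 : type_of% @Cfsg.IsOfLieType.eq_16 := @Cfsg.IsOfLieType.eq_16
theorem IsOfLieType_eq_def : type_of% @Cfsg.IsOfLieType.eq_def := @Cfsg.IsOfLieType.eq_def

end Cfsg.Agent.Eqns
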