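import Cfsg.Prelude.Def_Sporadic_a

/-! Realises once the on-demand equation lemmas of the recursive / matching definitions of `Def_Sporadic_a`.
Import this file before using `simp [f]`, `unfold f`, `rw [f]` on them. -/

namespace Cfsg.Agent.Eqns

theorem pointBlockRel_eq_1 : type_of% @Cfsg.pointBlockRel.eq_1 := @Cfsg.pointBlockRel.eq_1
theorem pointBlockRel_eq_2 : type_of% @Cfsg.pointBlockRel.eq_2 := @Cfsg.pointBlockRel.eq_2
theorem pointBlockRel_eq_3 : type_of% @Cfsg.pointBlockRel.eq_3 := @Cfsg.pointBlockRel.eq_3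
theorem pointBlockRel_eq_4 : type_of% @Cfsg.pointBlockRel.eq_4 := @Cfsg.pointBlockRel.eq_4
theorem pointBlockRel_eq_def : type_of% @Cfsg.pointBlockRel.eq_def := @Cfsg.pointBlockRel.eq_def
theorem cubeTwistFun_eq_1 : type_of% @Cfsg.cubeTwistFun.eq_1 := @Cfsg.cubeTwistFun.eq_1
theorem cubeTwistFun_eq_2 : type_of% @Cfsg.cubeTwistFun.eq_2 := @Cfsg.cubeTwistFun.eq_2
theorem cubeTwistFun_eq_def : type_of% @Cfsg.cubeTwistFun.eq_def := @Cfsg.cubeTwistFun.eq_def
theorem projInvFun_eq_1 : type_of% @Cfsg.projInvFun.eq_1 := @Cfsg.projInvFun.eq_1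
theorem projInvFun_eq_2 : type_of% @Cfsg.projInvFun.eq_2 := @Cfsg.projInvFun.eq_2
theorem projInvFun_eq_def : type_of% @Cfsg.projInvFun.eq_def := @Cfsg.projInvFun.eq_def
theorem qrWord_eq_1 : type_of% @Cfsg.qrWord.eq_1 := @Cfsg.qrWord.eq_1
theorem qrWord_eq_2 : type_of% @Cfsg.qrWord.eq_2 := @Cfsg.qrWord.eq_2
theorem qrWord_eq_def : type_of% @Cfsg.qrWord.eq_def := @Cfsg.qrWord.eq_def

end Cfsg.Agent.Eqns
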