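import Cfsg.Prelude.Def_StandardType

/-! Realises once the on-demand equation lemmas of the recursive / matching definitions of `Def_StandardType`.
Import this file before using `simp [f]`, `unfold f`, `rw [f]` on them. -/

namespace Cfsg.Agent.Eqns

theorem LieFamilyTwo_twisted_eq_1 : type_of% @Cfsg.LieFamilyTwo.twisted.eq_1 := @Cfsg.LieFamilyTwo.twisted.eq_1
theorem LieFamilyTwo_twisted_eq_2 : type_of% @Cfsg.LieFamilyTwo.twisted.eq_2 := @Cfsg.LieFamilyTwo.twisted.eq_2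
theorem LieFamilyTwo_twisted_eq_3 : type_of% @Cfsg.LieFamilyTwo.twisted.eq_3 := @Cfsg.LieFamilyTwo.twisted.eq_3
theorem LieFamilyTwo_twisted_eq_4 : type_of% @Cfsg.LieFamilyTwo.twisted.eq_4 := @Cfsg.LieFamilyTwo.twisted.eq_4
theorem LieFamilyTwo_twisted_eq_5 : type_of% @Cfsg.LieFamilyTwo.twisted.eq_5 := @Cfsg.LieFamilyTwo.twisted.eq_5
theorem LieFamilyTwo_twisted_eq_6 : type_of% @Cfsg.LieFamilyTwo.twisted.eq_6 := @Cfsg.LieFamilyTwo.twisted.eq_6
theorem LieFamilyTwo_twisted_eq_7 : type_of% @Cfsg.LieFamilyTwo.twisted.eq_7 := @Cfsg.LieFamilyTwo.twisted.eq_7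
theorem LieFamilyTwo_twisted_eq_def : type_of% @Cfsg.LieFamilyTwo.twisted.eq_def := @Cfsg.LieFamilyTwo.twisted.eq_def
theorem IsChevalleyGroupOfType_eq_1 : type_of% @Cfsg.IsChevalleyGroupOfType.eq_1 := @Cfsg.IsChevalleyGroupOfType.eq_1
theorem IsChevalleyGroupOfType_eq_2 : type_of% @Cfsg.IsChevalleyGroupOfType.eq_2 := @Cfsg.IsChevalleyGroupOfType.eq_2
theorem IsChevalleyGroupOfType_eq_3 : type_of% @Cfsg.IsChevalleyGroupOfType.eq_3 := @Cfsg.IsChevalleyGroupOfType.eq_3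
theorem IsChevalleyGroupOfType_eq_4 : type_of% @Cfsg.IsChevalleyGroupOfType.eq_4 := @Cfsg.IsChevalleyGroupOfType.eq_4
theorem IsChevalleyGroupOfType_eq_5 : type_of% @Cfsg.IsChevalleyGroupOfType.eq_5 := @Cfsg.IsChevalleyGroupOfType.eq_5
theorem IsChevalleyGroupOfType_eq_6 : type_of% @Cfsg.IsChevalleyGroupOfType.eq_6 := @Cfsg.IsChevalleyGroupOfType.eq_6
theorem IsChevalleyGroupOfType_eq_7 : type_of% @Cfsg.IsChevalleyGroupOfType.eq_7 := @Cfsg.IsChevalleyGroupOfType.eq_7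
theorem IsChevalleyGroupOfType_eq_8 : type_of% @Cfsg.IsChevalleyGroupOfType.eq_8 := @Cfsg.IsChevalleyGroupOfType.eq_8
theorem IsChevalleyGroupOfType_eq_9 : type_of% @Cfsg.IsChevalleyGroupOfType.eq_9 := @Cfsg.IsChevalleyGroupOfType.eq_9
theorem IsChevalleyGroupOfType_eq_10 : type_of% @Cfsg.IsChevalleyGroupOfType.eq_10 := @Cfsg.IsChevalleyGroupOfType.eq_10
theorem IsChevalleyGroupOfType_eq_11 : type_of% @Cfsg.IsChevalleyGroupOfType.eq_11 := @Cfsg.IsChevalleyGroupOfType.eq_11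
theorem IsChevalleyGroupOfType_eq_12 : type_of% @Cfsg.IsChevalleyGroupOfType.eq_12 := @Cfsg.IsChevalleyGroupOfType.eq_12
theorem IsChevalleyGroupOfType_eq_13 : type_of% @Cfsg.IsChevalleyGroupOfType.eq_13 := @Cfsg.IsChevalleyGroupOfType.eq_13
theorem IsChevalleyGroupOfType_eq_14 : type_of% @Cfsg.IsChevalleyGroupOfType.eq_14 := @Cfsg.IsChevalleyGroupOfType.eq_14
theorem IsChevalleyGroupOfType_eq_def : type_of% @Cfsg.IsChevalleyGroupOfType.eq_def := @Cfsg.IsChevalleyGroupOfType.eq_def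

end Cfsg.Agent.Eqns
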